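import Groth.Agent.CurvLocLib.FieldRows
import Groth.Agent.GorSp.SpaceBC
import Groth.Agent.CMFlatLib.Groupoid

/-!
The Cohen–Macaulay locus of a flat morphism of algebraic spaces, and its base change.
-/

set_option autoImplicit false
set_option backward.isDefEq.respectTransparency false
set_option backward.isDefEq.respectTransparency.types false
set_option linter.style.haveILetI false

universe u

open CategoryTheory CategoryTheory.Limits AlgebraicGeometry

namespace Groth.Agent.CurvLocLib

open _root_.AlgSp Groth.Agent.ASp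

variable {X Y P : Scheme.{u}}

theorem isNoetherianRing_fiber_stalk (f : X ⟶ Y) [LocallyOfFiniteType f] (x : X) :
    IsNoetherianRing ((f.fiber (f x)).presheaf.stalk (f.asFiber x)) := by
  haveI : LocallyOfFiniteType (f.fiberToSpecResidueField (f x)) :=
    MorphismProperty.pullback_snd (P := @LocallyOfFiniteType) _ _ inferInstance
  haveI := LocallyOfFiniteType.isLocallyNoetherian (f.fiberToSpecResidueField (f x))
  infer_instance

theorem cm_precomp_etale (t : P ⟶ X) [Etale t] (k : X ⟶ Y) [LocallyOfFiniteType k] (r : P) :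
    MoreMor.IsCMAt (t ≫ k) r ↔ MoreMor.IsCMAt k (t r) :=
  (CMFlatLib.isCMAt_comp_iff t k r (isNoetherianRing_fiber_stalk (t ≫ k) r) (Flat.stalkMap t r)).trans
    (and_iff_right (isCMAt_of_etale t r))

theorem cm_postcomp_etale (l : P ⟶ X) [Flat l] [LocallyOfFiniteType l] (v : X ⟶ Y) [Etale v] (r : P) :
    MoreMor.IsCMAt (l ≫ v) r ↔ MoreMor.IsCMAt l r :=
  (CMFlatLib.isCMAt_comp_iff l v r (isNoetherianRing_fiber_stalk (l ≫ v) r) (Flat.stalkMap l r)).trans
    (and_iff_left (isCMAt_of_etale v _))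

variable {S : Scheme.{u}} {F G : Sp S} {f : F ⟶ G}

/-- The Cohen–Macaulay property at a point can be tested in one chart. -/
theorem locPAt_cm_iff_of_chart (hf1 : LocP @Flat f) (hf2 : LocP @LocallyOfFiniteType f) {U V : Over S}
    {a : (yon S).obj U ⟶ F} {b : (yon S).obj V ⟶ G} {k : U ⟶ V} (ha : RepWith @Etale a) (hb : RepWith @Etale b)
    (e : a ≫ f = (yon S).map k ≫ b) (u : ↥U.left) :
    LocPAt (fun h u => MoreMor.IsCMAt h u) f (Points.ofPt a u) ↔ MoreMor.IsCMAt k.left u := by
  refine ⟨fun h => h a b k u ha hb e rfl, fun h U' V' a' b' k' u' ha' hb' e' hu => ?_⟩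
  obtain ⟨P, t, s, r, ht, hs, hts, rfl, rfl⟩ := exists_common_point ha' ha hu
  obtain ⟨V₂, v₁, v₂, sq⟩ := exists_isPullback_yon hb'.1 b
  haveI hv₁ : Etale v₁.left := hb.2 _ _ _ sq.flip
  haveI hv₂ : Etale v₂.left := hb'.2 _ _ _ sq
  haveI : Etale t.left := ht
  haveI : Etale s.left := hs
  haveI : Flat k.left := hf1 a b k ha hb e
  haveI : LocallyOfFiniteType k.left := hf2 a b k ha hb e
  haveI : Flat k'.left := hf1 a' b' k' ha' hb' e'
  haveI : LocallyOfFiniteType k'.left := hf2 a' b' k' ha' hb' e'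
  obtain ⟨l, hl⟩ := (yon S).map_surjective (sq.lift ((yon S).map (t ≫ k')) ((yon S).map (s ≫ k)) (by
    rw [Functor.map_comp, Functor.map_comp, Category.assoc, Category.assoc, ← e, ← e', reassoc_of% hts]))
  have h₁ : l.left ≫ v₁.left = t.left ≫ k'.left := by
    rw [← Over.comp_left, ← Over.comp_left]
    exact congrArg CommaMorphism.left ((yon S).map_injective (by simp [hl]) : l ≫ v₁ = t ≫ k')
  have h₂ : l.left ≫ v₂.left = s.left ≫ k.left := by
    rw [← Over.comp_left, ← Over.comp_left]
    exact congrArg CommaMorphism.left ((yon S).map_injective (by simp [hl]) : l ≫ v₂ = s ≫ k)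
  haveI : Flat l.left := IsEtLocal.of_postcomp (P := @Flat) _ v₁.left hv₁ (by rw [h₁]; infer_instance)
  haveI : LocallyOfFiniteType l.left := IsEtLocal.of_postcomp (P := @LocallyOfFiniteType) _ v₁.left hv₁
    (by rw [h₁]; infer_instance)
  change MoreMor.IsCMAt k'.left (t.left r)
  rw [← cm_precomp_etale t.left k'.left r, ← h₁, cm_postcomp_etale, ← cm_postcomp_etale l.left v₂.left, h₂,
    cm_precomp_etale s.left k.left r]
  exact h

variable (hF : IsAlgSpace F) (hG : IsAlgSpace G) (hf1 : LocP @Flat f) (hf2 : LocP @LocallyOfFinitePresentation f)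
include hF hG hf1 hf2

theorem isOpen_cmLocus : IsOpen {x | LocPAt (fun h u => MoreMor.IsCMAt h u) f x} := by
  obtain ⟨U, V, a, b, k, ha, has, hb, -, e⟩ := Groth.Agent.Inf.exists_chart (f := f) hF hG
  haveI : LocallyOfFinitePresentation k.left := hf2 a b k ha hb e
  have hlft : LocP @LocallyOfFiniteType f := fun U V a b k ha hb e => by
    haveI : LocallyOfFinitePresentation k.left := hf2 a b k ha hb e
    infer_instance
  rw [Groth.Agent.ASp.isOpen_iff_chart ha has]
  convert CMFlatLib.isOpen_isCMAt k.left using 1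
  exact Set.ext fun u => locPAt_cm_iff_of_chart hf1 hlft ha hb e u

theorem locPAt_cm_baseChange_iff {F' G' : Sp S} (hF' : IsAlgSpace F') (hG' : IsAlgSpace G') {g : G' ⟶ G}
    {g' : F' ⟶ F} {f' : F' ⟶ G'} (hsq : IsPullback g' f' f g) (hf'1 : LocP @Flat f')
    (hf'2 : LocP @LocallyOfFiniteType f') (x' : Points F') :
    LocPAt (fun h u => MoreMor.IsCMAt h u) f' x' ↔
      LocPAt (fun h u => MoreMor.IsCMAt h u) f (Points.map g' x') := by
  obtain ⟨U, V, W, a, b, c, k, j, a', p, ha, hb, hc, ha', e, ej, e1, e2, hp, hu, hw⟩ :=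
    Groth.Agent.GorSp.exists_baseChange_chart_through hF hG hF' hG' hsq x'
  haveI : Flat k.left := hf1 a b k ha hb e
  haveI : LocallyOfFinitePresentation k.left := hf2 a b k ha hb e
  have hlft : LocP @LocallyOfFiniteType f := fun U V a b k ha hb e => by
    haveI : LocallyOfFinitePresentation k.left := hf2 a b k ha hb e
    infer_instance
  rw [← hu, ← hp, locPAt_cm_iff_of_chart hf1 hlft ha hb e, locPAt_cm_iff_of_chart hf'1 hf'2 ha' hc e2]
  exact CMFlatLib.isCMAt_baseChange_iff k.left (isPullback_left (IsPullback.of_hasPullback k j)) p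

end Groth.Agent.CurvLocLib
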