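import Groth.Agent.CurvLocLib.OpenSubBig
import Groth.Agent.ASp.Graph
import Groth.Agent.ASp.QfCodim
import Groth.Agent.ASp.FlatLocusSp
import Groth.Prelude.Def_StCurv2

/-!
Open loci on the base of a family of curves, and the trivial family over a point.
-/

set_option autoImplicit false
set_option backward.isDefEq.respectTransparency false
set_option backward.isDefEq.respectTransparency.types false

universe u

open CategoryTheory CategoryTheory.Limits AlgebraicGeometry Opposite

namespace Groth.Agent.CurvLocLib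

open _root_.AlgSp Groth.Agent.ASp

variable {S : Scheme.{u}} {n : ℕ}

theorem isClosedMor_of_isCurveFam {A : CurvSt.SpFamObj S n} (hA : CurvSt.IsCurveFam A) : IsClosedMor A.f :=
  hA.2.2.1.2.2 (IsAlgSpace.yon_obj _) (𝟙 _) (𝟙 _) A.f (IsPullback.of_horiz_isIso ⟨by simp⟩)

theorem locPlft_of_isCurveFam {A : CurvSt.SpFamObj S n} (hA : CurvSt.IsCurveFam A) :
    LocP @LocallyOfFiniteType A.f := hA.2.2.1.2.1.1

/-- A property of families given by an open set of the total space stable under base change has open loci. -/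
theorem exists_openLocus {P : CurvSt.SpFamObj S n → Prop} (A : (CurvSt.Curves S n).obj)
    (L : Set (Points A.obj.X)) (hL : IsOpen L)
    (hP : ∀ {B : (CurvSt.Curves S n).obj} (φ : B ⟶ A), P B.obj ↔ ∀ x', Points.map φ.hom.top x' ∈ L) :
    ∃ V : ((CurvSt.Curves S n).p.obj A).left.Opens, ∀ {B : (CurvSt.Curves S n).obj} (φ : B ⟶ A),
      P B.obj ↔ Set.range ((CurvSt.Curves S n).p.map φ).left ⊆ V := by
  let e := Points.schemeHomeo A.obj.base
  have hc : IsClosed (Points.map A.obj.f '' Lᶜ) := isClosedMor_of_isCurveFam A.property _ hL.isClosed_compl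
  refine ⟨⟨(e ⁻¹' (Points.map A.obj.f '' Lᶜ))ᶜ, (hc.preimage e.continuous).isOpen_compl⟩, fun {B} φ => ?_⟩
  rw [hP φ]
  constructor
  · rintro h _ ⟨t, rfl⟩ ⟨x, hx, hxt⟩
    obtain ⟨x', hx'1, -⟩ := points_exists_of_isPullback φ.hom.cart x (Points.schemeHomeo B.obj.base t)
      (hxt.trans (Points.map_yon_map_apply φ.hom.base t).symm)
    exact hx (hx'1 ▸ h x')
  · intro h x'
    by_contra hx
    obtain ⟨t, ht⟩ := (Points.schemeHomeo B.obj.base).surjective (Points.map B.obj.f x')
    refine h ⟨t, rfl⟩ ⟨_, hx, ?_⟩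
    rw [← Points.map_comp, φ.hom.cart.w, Points.map_comp, ← ht]
    exact Points.map_yon_map_apply φ.hom.base t

/-- Open substacks of the stack of curves from open loci on the total space. -/
theorem isOpenSubstack_curves (hC : AlgSt.IsAlgStack Scheme.fppfPrecoverage (CurvSt.Curves S n))
    {P : CurvSt.SpFamObj S n → Prop}
    (h : ∀ A : (CurvSt.Curves S n).obj, ∃ L : Set (Points A.obj.X), IsOpen L ∧
      ∀ {B : (CurvSt.Curves S n).obj} (φ : B ⟶ A), P B.obj ↔ ∀ x', Points.map φ.hom.top x' ∈ L) :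
    AlgSt.IsOpenSubstack (CurvSt.Curves S n) (fun A => P A.obj) Scheme.fppfPrecoverage :=
  isOpenSubstack_of_openLocus (fun A => by
    obtain ⟨L, hL, hP⟩ := h A
    exact exists_openLocus A L hL hP) hC

/-- The trivial family over a field point. -/
noncomputable def trivFam (T : Over S) : CurvSt.SpFamObj S 0 :=
  (CurvSt.toSpFam S 0).obj ⟨T, T.left, 𝟙 _, Fin.elim0, fun i => i.elim0⟩

theorem isCurveFam_trivFam (T : Over S) : CurvSt.IsCurveFam (trivFam T) := by
  have key : ∀ (Q : MorphismProperty Scheme.{u}) [Q.IsStableUnderBaseChange], Q (𝟙 T.left) →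
      RepWith Q (trivFam T).f := fun Q _ h => repWith_yon_map h
  have hsep : IsSeparatedMor (trivFam T).f := (isProperMor_of_repWith (key @IsProper inferInstance)).1
  refine ⟨IsAlgSpace.yon_obj _, locP_of_repWith (key @Flat inferInstance), isProperMor_of_repWith (key @IsProper inferInstance),
    ⟨locP_of_repWith (key @LocallyOfFinitePresentation inferInstance), (isProperMor_of_repWith (key @IsProper inferInstance)).2.1.2,
      repWith_mono (fun _ _ g (hg : IsClosedImmersion g) => (inferInstance : QuasiCompact g)) hsep⟩, fun x => ?_⟩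
  obtain ⟨u, rfl⟩ := (Points.schemeHomeo _).surjective x
  refine ⟨_, _, 𝟙 _, 𝟙 _, Over.homMk (𝟙 T.left) rfl, u, repWith_id _ _, repWith_id _ _,
    (Category.id_comp _).trans (Category.comp_id _).symm, ?_, ?_⟩
  · rw [Points.ofPt_eq_map_ofScheme, Points.map_id]
    rfl
  · change FlatMor.fibreDimAt (𝟙 T.left) u ≤ _
    haveI : IsFinite (𝟙 T.left) := inferInstance
    rw [fibreDimAt_eq_zero_of_quasiFiniteAt (𝟙 T.left) u (Scheme.Hom.quasiFiniteAt (𝟙 T.left) u)]
    norm_num

/-- The fibre of a full substack over a field point, from the trivial family. -/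
theorem nonempty_fiber {P : CurvSt.SpFamObj S 0 → Prop} (T : Over S) (hP : P (trivFam T)) :
    Nonempty ((AlgSt.fullSub (CurvSt.Curves S 0) (fun A => P A.obj)).p.Fiber T) :=
  ⟨⟨⟨⟨trivFam T, isCurveFam_trivFam T⟩, hP⟩, rfl⟩⟩

end Groth.Agent.CurvLocLib
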