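import Groth.Agent.CurvLocLib.CMSpace
import Groth.Agent.FibreDimEt.Sp
import Groth.Agent.LocDimBC.Scheme
import Groth.Agent.CMFlatLib.Locus

/-!
The locus of Cohen–Macaulay points of given relative dimension.
-/

set_option autoImplicit false
set_option backward.isDefEq.respectTransparency false
set_option backward.isDefEq.respectTransparency.types false

universe u

open CategoryTheory CategoryTheory.Limits AlgebraicGeometry

namespace Groth.Agent.CurvLocLib

open _root_.AlgSp Groth.Agent.ASp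

variable {S : Scheme.{u}} {F G : Sp S} {f : F ⟶ G}

theorem hasAtMor_dim_iff_of_chart {U V : Over S} {a : (yon S).obj U ⟶ F} {b : (yon S).obj V ⟶ G} {k : U ⟶ V}
    (ha : RepWith @Etale a) (hb : RepWith @Etale b) (e : a ≫ f = (yon S).map k ≫ b) (u : ↥U.left)
    (d : WithBot ℕ∞) :
    HasAtMor (fun _ _ h u => FlatMor.fibreDimAt h u = d) f (Points.ofPt a u) ↔ FlatMor.fibreDimAt k.left u = d := by
  refine ⟨?_, fun h => ⟨U, V, a, b, k, u, ha, hb, e, rfl, h⟩⟩
  rintro ⟨U₁, V₁, a₁, b₁, h₁, u₁, ha₁, hb₁, e₁, hx₁, hQ⟩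
  rw [FibreDimEt.fibreDimAt_eq_of_charts ha hb e ha₁ hb₁ e₁ hx₁.symm]
  exact hQ

variable (hF : IsAlgSpace F) (hG : IsAlgSpace G) (hf1 : LocP @Flat f) (hf2 : LocP @LocallyOfFinitePresentation f)
include hF hG hf1 hf2

theorem isOpen_cmDimLocus (n : ℕ) :
    IsOpen {x | LocPAt (fun h u => MoreMor.IsCMAt h u) f x ∧
      HasAtMor (fun _ _ h u => FlatMor.fibreDimAt h u = (n : WithBot ℕ∞)) f x} := by
  obtain ⟨U, V, a, b, k, ha, has, hb, -, e⟩ := Groth.Agent.Inf.exists_chart (f := f) hF hG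
  haveI : LocallyOfFinitePresentation k.left := hf2 a b k ha hb e
  have hlft : LocP @LocallyOfFiniteType f := fun U V a b k ha hb e => by
    haveI : LocallyOfFinitePresentation k.left := hf2 a b k ha hb e
    infer_instance
  rw [Groth.Agent.ASp.isOpen_iff_chart ha has]
  refine isOpen_iff_forall_mem_open.2 fun u hu => ?_
  obtain ⟨W, huW, hW⟩ := CMFlatLib.exists_nhd_isCMAt k.left u n
    ((locPAt_cm_iff_of_chart hf1 hlft ha hb e u).1 hu.1) ((hasAtMor_dim_iff_of_chart ha hb e u _).1 hu.2)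
  exact ⟨W, fun v hv => ⟨(locPAt_cm_iff_of_chart hf1 hlft ha hb e v).2 (hW v hv).1,
    (hasAtMor_dim_iff_of_chart ha hb e v _).2 (hW v hv).2⟩, W.2, huW⟩

theorem hasAtMor_dim_baseChange_iff {F' G' : Sp S} (hF' : IsAlgSpace F') (hG' : IsAlgSpace G') {g : G' ⟶ G}
    {g' : F' ⟶ F} {f' : F' ⟶ G'} (hsq : IsPullback g' f' f g) (x' : Points F') (d : WithBot ℕ∞) :
    HasAtMor (fun _ _ h u => FlatMor.fibreDimAt h u = d) f' x' ↔
      HasAtMor (fun _ _ h u => FlatMor.fibreDimAt h u = d) f (Points.map g' x') := by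
  obtain ⟨U, V, W, a, b, c, k, j, a', p, ha, hb, hc, ha', e, ej, e1, e2, hp, hu, hw⟩ :=
    Groth.Agent.GorSp.exists_baseChange_chart_through hF hG hF' hG' hsq x'
  haveI : LocallyOfFinitePresentation k.left := hf2 a b k ha hb e
  rw [← hu, ← hp, hasAtMor_dim_iff_of_chart ha hb e, hasAtMor_dim_iff_of_chart ha' hc e2,
    LocDimBC.fibreDimAt_baseChange (isPullback_left (IsPullback.of_hasPullback k j)) p]

end Groth.Agent.CurvLocLib
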