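import Groth.Agent.GorSp.Space
import Groth.Agent.CMFlatLib.Comp
import Groth.Agent.CMFlatLib.Locus
import Groth.Agent.ASp.OnePoint
import Groth.Agent.DimFormulaLib.Field

/-!
Cohen–Macaulay and Gorenstein morphisms over a field, tested on representable chart diagrams.
-/

set_option autoImplicit false
set_option backward.isDefEq.respectTransparency false
set_option backward.isDefEq.respectTransparency.types false
set_option linter.style.haveILetI false

universe u

open CategoryTheory CategoryTheory.Limits AlgebraicGeometry IsLocalRing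

namespace Groth.Agent.CurvLocLib

open _root_.AlgSp Groth.Agent.ASp

variable {X Y : Scheme.{u}}

theorem flat_of_isField (f : X ⟶ Y) (x : X) (hY : IsField (Y.presheaf.stalk (f x))) :
    (f.stalkMap x).hom.Flat := by
  letI := hY.toField
  letI := (f.stalkMap x).hom.toAlgebra
  exact (inferInstance : Module.Flat (Y.presheaf.stalk (f x)) (X.presheaf.stalk x))

theorem map_maximalIdeal_eq_bot (f : X ⟶ Y) (x : X) (hY : IsField (Y.presheaf.stalk (f x))) :
    (maximalIdeal (Y.presheaf.stalk (f x))).map (f.stalkMap x).hom = ⊥ := by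
  rw [IsLocalRing.isField_iff_maximalIdeal_eq.1 hY, Ideal.map_bot]

/-- Over a point with a field as local ring, Cohen–Macaulay means Cohen–Macaulay local ring. -/
theorem isCMAt_iff_stalk (f : X ⟶ Y) (x : X) (hY : IsField (Y.presheaf.stalk (f x))) :
    MoreMor.IsCMAt f x ↔ LocCoh.IsCohenMacaulayLocalRing (X.presheaf.stalk x) := by
  rw [CMFlatLib.isCMAt_iff, CMFlatLib.CMFibre, CMFlatLib.span_nonunits, map_maximalIdeal_eq_bot f x hY,
    and_iff_right (flat_of_isField f x hY)]
  exact ⟨fun h => CMCat.isCohenMacaulayLocalRing_of_ringEquiv (RingEquiv.quotientBot _),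
    fun h => CMCat.isCohenMacaulayLocalRing_of_ringEquiv (RingEquiv.quotientBot _).symm⟩

/-- Over a point with a field as local ring, Gorenstein means Gorenstein local ring. -/
theorem gorAt_iff_stalk (f : X ⟶ Y) (x : X) (hY : IsField (Y.presheaf.stalk (f x))) :
    Dual3.IsGorensteinAt f x ↔ LocCoh.IsGorensteinLocalRing (X.presheaf.stalk x) := by
  rw [GorSp.gorAt_iff, GorSp.GorMap, map_maximalIdeal_eq_bot f x hY,
    and_iff_right (flat_of_isField f x hY)]
  exact GorLib.gorenstein_iff_ringEquiv (RingEquiv.quotientBot _)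

/-- Étale morphisms are Cohen–Macaulay. -/
theorem isCMAt_of_etale (f : X ⟶ Y) [Etale f] (x : X) : MoreMor.IsCMAt f x := by
  haveI : Etale (f.fiberToSpecResidueField (f x)) :=
    MorphismProperty.pullback_snd (P := @Etale) _ _ inferInstance
  have h := ASp.isField_stalk_of_etale_field (f.fiberToSpecResidueField (f x)) (f.asFiber x)
  letI := h.toField
  exact ⟨Flat.stalkMap f x, CMFlatLib.cm_of_dim_zero (ringKrullDim_eq_zero_of_field _).le⟩

/-- Cohen–Macaulayness over a field is étale local. -/
theorem cm_stalk_etale_iff {k : Type u} [Field k] (p : Y ⟶ Spec (CommRingCat.of k)) [LocallyOfFiniteType p]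
    (v : X ⟶ Y) [Etale v] (x : X) :
    LocCoh.IsCohenMacaulayLocalRing (X.presheaf.stalk x) ↔ LocCoh.IsCohenMacaulayLocalRing (Y.presheaf.stalk (v x)) := by
  haveI : LocallyOfFiniteType ((v ≫ p).fiberToSpecResidueField ((v ≫ p) x)) :=
    MorphismProperty.pullback_snd (P := @LocallyOfFiniteType) _ _ inferInstance
  haveI : IsLocallyNoetherian ((v ≫ p).fiber ((v ≫ p) x)) :=
    LocallyOfFiniteType.isLocallyNoetherian ((v ≫ p).fiberToSpecResidueField ((v ≫ p) x))
  have h := CMFlatLib.isCMAt_comp_iff v p x inferInstance (Flat.stalkMap v x)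
  rw [isCMAt_iff_stalk _ _ (DimFormulaLib.isField_stalk _ _).1,
    isCMAt_iff_stalk _ _ (DimFormulaLib.isField_stalk _ _).1, and_iff_right (isCMAt_of_etale v x)] at h
  exact h

variable {S : Scheme.{u}}

/-- A chart diagram of a morphism of representable sheaves is a commutative square of schemes. -/
theorem exists_chart_yon_map {A B U V : Over S} {f : A ⟶ B} {a : (yon S).obj U ⟶ (yon S).obj A}
    {b : (yon S).obj V ⟶ (yon S).obj B} {h : U ⟶ V} (ha : RepWith @Etale a) (hb : RepWith @Etale b)
    (e : a ≫ (yon S).map f = (yon S).map h ≫ b) :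
    ∃ (u : U.left ⟶ A.left) (v : V.left ⟶ B.left), Etale u ∧ Etale v ∧ u ≫ f.left = h.left ≫ v := by
  obtain ⟨u, rfl⟩ := (yon S).map_surjective a
  obtain ⟨v, rfl⟩ := (yon S).map_surjective b
  refine ⟨u.left, v.left, (repWith_yon_map_iff @Etale u).1 ha, (repWith_yon_map_iff @Etale v).1 hb, ?_⟩
  rw [← Over.comp_left, ← Over.comp_left, (yon S).map_injective
    (show (yon S).map (u ≫ f) = (yon S).map (h ≫ v) by rw [Functor.map_comp, Functor.map_comp, e])]

end Groth.Agent.CurvLocLib
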