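import Groth.Prelude.Def_StCurv2
import Groth.Agent.GeomFib.Basic
import Groth.Agent.EtAlgEasy.MorFibre
import Groth.Agent.ASp.GeomRedSpace
import Groth.Agent.FlatLocus.PointScheme
import Groth.Agent.S2155

/-!
Geometric fibres of the classifying object of a scheme over a field.
-/

set_option autoImplicit false
set_option backward.isDefEq.respectTransparency false
set_option backward.isDefEq.respectTransparency.types false
set_option linter.style.haveILetI false

universe u

open CategoryTheory CategoryTheory.Limits AlgebraicGeometry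

namespace Groth.Agent.CurvLocLib

/-- For a scheme family without marked points the geometric fibre condition is about squares of schemes. -/
theorem geomFib_toSpFam_iff {S : Scheme.{u}} (A : CurvSt.PtFamObj S 0)
    (P : ∀ (Ω : Type u) [Field Ω] [IsAlgClosed Ω] (X' : Scheme.{u}),
      (X' ⟶ Spec (CommRingCat.of Ω)) → Prop) :
    CurvSt.GeomFib (fun Ω _ _ X' q _ => P Ω X' q) ((CurvSt.toSpFam S 0).obj A) ↔
      ∀ (Ω : Type u) [Field Ω] [IsAlgClosed Ω] (t : Spec (CommRingCat.of Ω) ⟶ A.base.left) (X' : Scheme.{u})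
        (q : X' ⟶ Spec (CommRingCat.of Ω)) (i : X' ⟶ A.totOver.left), IsPullback i q A.f t → P Ω X' q := by
  constructor
  · intro h Ω _ _ t X' q i hi
    let io : Over.mk ((q ≫ t) ≫ A.base.hom) ⟶ A.totOver :=
      Over.homMk i (by
        show i ≫ A.f ≫ A.base.hom = (q ≫ t) ≫ A.base.hom
        rw [← Category.assoc, hi.w])
    refine h Ω t X' q ((AlgSp.yon S).map io) ?_
    exact (IsPullback.of_map (Over.forget S) (f := io) (g := ((CurvSt.toSpFam S 0).obj A).fibHom t q)
      (h := A.fOver) (i := ((CurvSt.toSpFam S 0).obj A).ptHom t) (Over.OverMorphism.ext hi.w) hi).map (AlgSp.yon S)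
  · intro h Ω _ _ t X' q i hP
    obtain ⟨io, rfl⟩ := (AlgSp.yon S).map_surjective i
    exact h Ω t X' q io.left ((IsPullback.of_map (AlgSp.yon S) ((AlgSp.yon S).map_injective
      (by rw [Functor.map_comp, Functor.map_comp]; exact hP.w)) hP).map (Over.forget S))

variable {k : Type u} [Field k] {X : Scheme.{u}} {p : X ⟶ Spec (CommRingCat.of k)}

/-- A field-extension descending property may be tested on algebraically closed fields. -/
theorem geometrically_of_algClosed (P : ObjectProperty Scheme.{u}) (hP : GeomFib.DescendsFFlat P)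
    (h : ∀ (Ω : Type u) [Field Ω] [IsAlgClosed Ω] (t : Spec (CommRingCat.of Ω) ⟶ Spec (CommRingCat.of k))
      (X' : Scheme.{u}) (i : X' ⟶ X) (q : X' ⟶ Spec (CommRingCat.of Ω)), IsPullback i q p t → P X') :
    geometrically P p := by
  intro K _ y Z fst snd hZ
  let φ := algebraMap K (AlgebraicClosure K)
  obtain ⟨h1, h2⟩ := ASp.flat_surjective_specMap_field φ
  let s := Spec.map (CommRingCat.ofHom φ)
  haveI : Flat (pullback.fst snd s) := MorphismProperty.pullback_fst _ _ h1
  haveI : Surjective (pullback.fst snd s) := MorphismProperty.pullback_fst _ _ h2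
  exact hP (pullback.fst snd s) (h (AlgebraicClosure K) (s ≫ y) _ _ _
    ((IsPullback.of_hasPullback snd s).paste_horiz hZ))

theorem descends_isReduced : GeomFib.DescendsFFlat.{u} (IsReduced ·) := fun _ _ q _ _ h => by
  haveI := h
  exact ASp.isReduced_of_flat_surjective q

theorem geometricallyReduced_iff_algClosed :
    GeometricallyReduced p ↔ ∀ (Ω : Type u) [Field Ω] [IsAlgClosed Ω]
      (t : Spec (CommRingCat.of Ω) ⟶ Spec (CommRingCat.of k)) (X' : Scheme.{u})
      (q : X' ⟶ Spec (CommRingCat.of Ω)) (i : X' ⟶ X), IsPullback i q p t → IsReduced X' :=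
  ⟨fun h Ω _ _ t X' q i hi => h.geometrically_isReduced t i q hi,
    fun h => ⟨geometrically_of_algClosed _ descends_isReduced fun Ω _ _ t X' i q hi => h Ω t X' q i hi⟩⟩

theorem geometricallyConnected_iff_algClosed :
    GeometricallyConnected p ↔ ∀ (Ω : Type u) [Field Ω] [IsAlgClosed Ω]
      (t : Spec (CommRingCat.of Ω) ⟶ Spec (CommRingCat.of k)) (X' : Scheme.{u})
      (q : X' ⟶ Spec (CommRingCat.of Ω)) (i : X' ⟶ X), IsPullback i q p t → ConnectedSpace ↥X' :=
  ⟨fun h Ω _ _ t X' q i hi => h.geometrically_connectedSpace t i q hi,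
    fun h => ⟨geometrically_of_algClosed _ GeomFib.descends_connected fun Ω _ _ t X' i q hi => h Ω t X' q i hi⟩⟩

theorem topologicalKrullDim_fieldExt [LocallyOfFiniteType p] {K : Type u} [Field K]
    {t : Spec (CommRingCat.of K) ⟶ Spec (CommRingCat.of k)} {X' : Scheme.{u}} {i : X' ⟶ X}
    {q : X' ⟶ Spec (CommRingCat.of K)} (hi : IsPullback i q p t) :
    topologicalKrullDim ↥X' = topologicalKrullDim ↥X := by
  haveI : Subsingleton ↥(Spec (CommRingCat.of k)) := inferInstanceAs (Subsingleton (PrimeSpectrum k))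
  haveI : Subsingleton ↥(Spec (CommRingCat.of K)) := inferInstanceAs (Subsingleton (PrimeSpectrum K))
  exact EtAlgEasy.MorFibre.topologicalKrullDim_baseChange hi

/-- The non-smooth locus is finite iff it is finite after a field extension. -/
theorem finite_nonsmooth_iff [LocallyOfFiniteType p] {K : Type u} [Field K]
    {t : Spec (CommRingCat.of K) ⟶ Spec (CommRingCat.of k)} {X' : Scheme.{u}} {i : X' ⟶ X}
    {q : X' ⟶ Spec (CommRingCat.of K)} (hi : IsPullback i q p t) :
    Set.Finite {x : ↥X' | ¬ ∃ U : X'.Opens, x ∈ U ∧ Smooth (U.ι ≫ q)} ↔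
      Set.Finite {x : ↥X | ¬ ∃ U : X.Opens, x ∈ U ∧ Smooth (U.ι ≫ p)} := by
  obtain ⟨φ, rfl⟩ := Spec.map_surjective t
  obtain ⟨h1, h2⟩ := ASp.flat_surjective_specMap_field φ.hom
  haveI : LocallyOfFinitePresentation p := LocallyOfFinitePresentation.iff_locallyOfFiniteType.mpr inferInstance
  haveI : LocallyOfFinitePresentation q := MorphismProperty.of_isPullback hi inferInstance
  haveI : Surjective i := MorphismProperty.of_isPullback hi.flip h2
  have hset : {x : ↥X' | ¬ ∃ U : X'.Opens, x ∈ U ∧ Smooth (U.ι ≫ q)} =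
      i ⁻¹' {x : ↥X | ¬ ∃ U : X.Opens, x ∈ U ∧ Smooth (U.ι ≫ p)} := by
    ext x
    show ¬ _ ↔ ¬ _
    rw [FlatLocus.exists_smooth_nhd_iff, FlatLocus.exists_smooth_nhd_iff]
    have := S2155.result p (Spec.map φ) q i hi (Or.inr h1)
    exact not_congr (SetLike.ext_iff.1 this x)
  have hcl : IsClosed {x : ↥X | ¬ ∃ U : X.Opens, x ∈ U ∧ Smooth (U.ι ≫ p)} := by
    rw [show {x : ↥X | ¬ ∃ U : X.Opens, x ∈ U ∧ Smooth (U.ι ≫ p)} = (p.smoothLocus : Set ↥X)ᶜ from
      Set.ext fun x => not_congr (FlatLocus.exists_smooth_nhd_iff p x)]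
    exact p.smoothLocus.2.isClosed_compl
  rw [hset]
  refine ⟨fun h => ?_, fun h => h.preimage' fun x hx => ?_⟩
  · refine (h.image i).subset fun x hx => ?_
    obtain ⟨y, rfl⟩ := i.surjective x
    exact ⟨y, hx, rfl⟩
  · haveI : JacobsonSpace ↥X := LocallyOfFiniteType.jacobsonSpace p
    have hxc : IsClosed ({x} : Set ↥X) := by
      have h' := JacobsonSpace.closure_inter_closedPoints hcl
      have hfin : IsClosed ({x : ↥X | ¬ ∃ U : X.Opens, x ∈ U ∧ Smooth (U.ι ≫ p)} ∩ closedPoints ↥X) := by
        rw [← Set.biUnion_of_singleton ({x : ↥X | ¬ ∃ U : X.Opens, x ∈ U ∧ Smooth (U.ι ≫ p)} ∩ closedPoints ↥X)]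
        exact (h.inter_of_left _).isClosed_biUnion fun y hy => hy.2
      rw [hfin.closure_eq] at h'
      exact (h'.ge hx).2
    haveI : IsClosedImmersion (X.fromSpecResidueField x) := isClosed_singleton_iff_isClosedImmersion.1 hxc
    haveI : IsFinite (X.fromSpecResidueField x ≫ p) := by
      rw [isFinite_iff_locallyOfFiniteType_of_jacobsonSpace]; infer_instance
    have hpb := (IsPullback.of_hasPullback (X.fromSpecResidueField x) i).paste_vert hi
    haveI : IsFinite (pullback.snd (X.fromSpecResidueField x) i ≫ q) :=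
      MorphismProperty.of_isPullback hpb inferInstance
    haveI : Finite ↥(pullback (X.fromSpecResidueField x) i) := by
      have hf := IsFinite.finite_preimage_singleton (pullback.snd (X.fromSpecResidueField x) i ≫ q)
        (IsLocalRing.closedPoint K)
      exact Set.finite_univ_iff.1 (hf.subset fun y _ =>
        Subsingleton.elim (α := PrimeSpectrum K) _ _)
    have hr : i ⁻¹' {x} = Set.range (pullback.snd (X.fromSpecResidueField x) i) := by
      rw [Scheme.Pullback.range_snd, Scheme.range_fromSpecResidueField]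
    rw [hr]
    exact Set.finite_range _

end Groth.Agent.CurvLocLib
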