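import Groth.Agent.ASt.Stack
import Groth.Agent.ASp.LocP
import Groth.Prelude.Def_AlgSt3

/-!
Open substacks of algebraic stacks with arbitrary universes, from open loci on charts.
-/

set_option autoImplicit false
set_option backward.isDefEq.respectTransparency false
set_option backward.isDefEq.respectTransparency.types false
set_option linter.unusedSectionVars false
set_option maxHeartbeats 1000000

universe v₆ u₆ v₅ u₅ v₄ u₄ v₃ u₃ v₂ u₂ v w u

open CategoryTheory CategoryTheory.Limits AlgebraicGeometry Opposite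

namespace Groth.Agent.CurvLocLib

open Groth.Agent.ASt

section Transfer

variable {S : Scheme.{u}} {𝒜 : BasedCategory.{v₃, u₃} (Over S)} {ℬ : BasedCategory.{v₄, u₄} (Over S)}
  {𝒜' : BasedCategory.{v₅, u₅} (Over S)} {ℬ' : BasedCategory.{v₆, u₆} (Over S)}
variable {f : 𝒜 ⥤ᵇ ℬ} {f' : 𝒜' ⥤ᵇ ℬ'} (K : 𝒜' ⥤ᵇ 𝒜) (J : ℬ' ⥤ᵇ ℬ)
  (σ : BasedFunctor.comp f' J ≅ BasedFunctor.comp K f)

/-- The map of fibre products induced by a square. -/
noncomputable def transferF {U : Over S} (y : FibCat.overCat U ⥤ᵇ ℬ') :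
    FibCat.fp y f' ⥤ᵇ FibCat.fp (BasedFunctor.comp y J) f :=
  FibCat.fpLift (FibCat.fpFst y f') (BasedFunctor.comp (FibCat.fpSnd y f') K)
    (wR (FibCat.fpIso y f') J ≪≫ wL (FibCat.fpSnd y f') σ)

theorem isEquivOver_transferF [K.toFunctor.Full] [K.toFunctor.Faithful] [J.toFunctor.Full] [J.toFunctor.Faithful]
    (hess : ∀ (b' : ℬ'.obj) (a : 𝒜.obj) (φ : J.obj b' ≅ f.obj a) (e : ℬ.p.obj (J.obj b') = ℬ.p.obj (f.obj a)),
      ℬ.p.map φ.hom = eqToHom e →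
        ∃ (a' : 𝒜'.obj) (h : 𝒜'.p.obj a' = 𝒜.p.obj a) (ε : K.obj a' ≅ a),
          𝒜.p.map ε.hom = eqToHom ((K.w_obj a').trans h))
    {U : Over S} (y : FibCat.overCat U ⥤ᵇ ℬ') : FibCat.IsEquivOver (transferF K J σ y) := by
  haveI : (transferF K J σ y).toFunctor.Faithful := ⟨fun {m n a b} h =>
    fp_hom_ext (congrArg (fun q => q.hom.fst) h)
      (K.toFunctor.map_injective (congrArg (fun q => q.hom.snd) h))⟩
  haveI : (transferF K J σ y).toFunctor.Full := ⟨fun {m n} ψ => by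
    obtain ⟨b, hb⟩ := K.toFunctor.map_surjective ψ.hom.snd
    refine ⟨fpHomMk ψ.hom.fst b (J.toFunctor.map_injective ?_), fp_hom_ext rfl hb⟩
    rw [Functor.map_comp, Functor.map_comp, ← cancel_mono (σ.hom.toNatTrans.app n.obj.snd), Category.assoc,
      Category.assoc]
    have h1 : J.map (y.map ψ.hom.fst) ≫ J.map n.obj.iso.hom ≫ σ.hom.toNatTrans.app n.obj.snd =
        (J.map m.obj.iso.hom ≫ σ.hom.toNatTrans.app m.obj.snd) ≫ f.map ψ.hom.snd := ψ.hom.w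
    have h2 : J.map (f'.map b) ≫ σ.hom.toNatTrans.app n.obj.snd =
        σ.hom.toNatTrans.app m.obj.snd ≫ f.map (K.map b) := σ.hom.toNatTrans.naturality b
    rw [h1, h2, Category.assoc, ← hb]⟩
  refine isEquivOver_of_vert _ fun z => ?_
  obtain ⟨a', ha', ε, hε⟩ := hess (y.obj z.obj.fst) z.obj.snd z.obj.iso _ (fp_iso_map z)
  have hεi : 𝒜.p.map ε.inv = eqToHom ((K.w_obj a').trans ha').symm := by
    rw [← cancel_epi (𝒜.p.map ε.hom), ← Functor.map_comp]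
    simp [hε]
  let σa : (BasedFunctor.comp f' J).obj a' ≅ (BasedFunctor.comp K f).obj a' :=
    ((BasedNatTrans.forgetful _ _).mapIso σ).app a'
  let φ : J.obj (y.obj z.obj.fst) ≅ J.obj (f'.obj a') := z.obj.iso ≪≫ f.toFunctor.mapIso ε.symm ≪≫ σa.symm
  have hbase : 𝒜'.p.obj a' = (FibCat.overCat U).p.obj z.obj.fst := ha'.trans (fp_snd_base z)
  have hφ : ℬ'.p.map (J.toFunctor.preimage φ.hom) =
      eqToHom ((y.w_obj z.obj.fst).trans (hbase.symm.trans (f'.w_obj a').symm)) := by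
    have hσ : ℬ.p.map σa.inv =
        eqToHom (((BasedFunctor.comp K f).w_obj a').trans ((BasedFunctor.comp f' J).w_obj a').symm) :=
      map_app _ _ σ.inv a'
    rw [map_preimage]
    simp only [φ, Iso.trans_hom, Functor.mapIso_hom, Iso.symm_hom, Functor.map_comp]
    simp only [fp_iso_map, map_w, hεi, hσ, eqToHom_trans, Category.assoc]
  let x : (FibCat.fp y f').obj := fpMk z.obj.fst a' hbase (J.toFunctor.preimageIso φ) hφ
  have hx : ((transferF K J σ y).obj x).obj.iso.hom = z.obj.iso.hom ≫ f.map ε.inv := by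
    change J.map (J.toFunctor.preimage φ.hom) ≫ σa.hom = _
    simp [φ]
  refine ⟨x, rfl, ⟨fpHomMk (𝟙 _) ε.hom ?_, fpHomMk (𝟙 _) ε.inv ?_, ?_, ?_⟩, ?_⟩
  · rw [hx]
    change J.map (y.map (𝟙 z.obj.fst)) ≫ z.obj.iso.hom = (z.obj.iso.hom ≫ f.map ε.inv) ≫ f.map ε.hom
    simp [← Functor.map_comp]
  · rw [hx]
    change J.map (y.map (𝟙 z.obj.fst)) ≫ (z.obj.iso.hom ≫ f.map ε.inv) = z.obj.iso.hom ≫ f.map ε.inv
    simp
  · exact fp_hom_ext (Category.comp_id _) ε.hom_inv_id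
  · exact fp_hom_ext (Category.comp_id _) ε.inv_hom_id
  · exact ((FibCat.overCat U).p.map_id _).trans (eqToHom_refl _ rfl).symm

theorem spMapOfOver_congr {F : AlgSp.Sp S} {U : Over S} {Φ Ψ : AlgSt.ofSp F ⥤ᵇ FibCat.overCat U} (α : Φ ≅ Ψ) :
    AlgSt.spMapOfOver Φ = AlgSt.spMapOfOver Ψ := by
  refine InducedCategory.hom_ext (NatTrans.ext (funext fun T => ?_))
  ext x
  refine congrArg ULift.up ?_
  let a : (AlgSt.ofSp F).obj := ⟨T.unop, x⟩
  have h1 : (α.hom.toNatTrans.app a).left = eqToHom ((Φ.w_obj a).trans (Ψ.w_obj a).symm) := map_app Φ Ψ α.hom a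
  have h2 : (α.hom.toNatTrans.app a).left ≫ (Ψ.obj a).hom = (Φ.obj a).hom := Over.w _
  change AlgSt.secHom Φ a = AlgSt.secHom Ψ a
  simp [AlgSt.secHom, ← h2, h1]

variable {K J}

/-- Representability passes through a square which is cartesian on fibre products. -/
theorem repByAlgSpWith_transfer [K.toFunctor.Full] [K.toFunctor.Faithful] [J.toFunctor.Full] [J.toFunctor.Faithful]
    (hess : ∀ (b' : ℬ'.obj) (a : 𝒜.obj) (φ : J.obj b' ≅ f.obj a) (e : ℬ.p.obj (J.obj b') = ℬ.p.obj (f.obj a)),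
      ℬ.p.map φ.hom = eqToHom e →
        ∃ (a' : 𝒜'.obj) (h : 𝒜'.p.obj a' = 𝒜.p.obj a) (ε : K.obj a' ≅ a),
          𝒜.p.map ε.hom = eqToHom ((K.w_obj a').trans h))
    (σ : BasedFunctor.comp f' J ≅ BasedFunctor.comp K f) {P : MorphismProperty (AlgSp.Sp S)}
    (hf : AlgSt.RepByAlgSpWith P f) : AlgSt.RepByAlgSpWith P f' := fun U y => by
  obtain ⟨F, e, he, hP⟩ := hf U (BasedFunctor.comp y J)
  obtain ⟨G, hG, -, ⟨β⟩⟩ := isEquivOver_symm (isEquivOver_transferF K J σ hess y)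
  refine ⟨F, BasedFunctor.comp e G, isEquivOver_comp he hG, ?_⟩
  have h : BasedFunctor.comp (BasedFunctor.comp e G) (FibCat.fpFst y f') =
      BasedFunctor.comp e (BasedFunctor.comp (BasedFunctor.comp G (transferF K J σ y))
        (FibCat.fpFst (BasedFunctor.comp y J) f)) := basedFunctor_ext rfl
  rw [h, spMapOfOver_congr (wL e (wR β (FibCat.fpFst (BasedFunctor.comp y J) f)))]
  exact hP

end Transfer

section OpenSub

variable {S : Scheme.{u}} {𝒳 : BasedCategory.{v, w} (Over S)} {𝒜 : BasedCategory.{v₃, u₃} (Over S)}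
  {Q : 𝒳.obj → Prop}

/-- A functor landing in a full subcategory. -/
def liftSub (F : 𝒜 ⥤ᵇ 𝒳) (h : ∀ a, Q (F.obj a)) : 𝒜 ⥤ᵇ AlgSt.fullSub 𝒳 Q where
  toFunctor := ObjectProperty.lift Q F.toFunctor h
  w := F.w

instance faithful_subIncl' : (AlgSt.subIncl 𝒳 Q).toFunctor.Faithful := inferInstanceAs (ObjectProperty.ι Q).Faithful

instance full_subIncl' : (AlgSt.subIncl 𝒳 Q).toFunctor.Full := inferInstanceAs (ObjectProperty.ι Q).Full

variable (H : ∀ x : 𝒳.obj, ∃ V : (𝒳.p.obj x).left.Opens, ∀ {x' : 𝒳.obj} (a : x' ⟶ x),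
  Q x' ↔ Set.range (𝒳.p.map a).left ⊆ V)

include H

theorem pull_of_openLocus {x' x : 𝒳.obj} (a : x' ⟶ x) (h : Q x) : Q x' := by
  obtain ⟨V, hV⟩ := H x
  refine (hV a).2 ?_
  rintro _ ⟨t, rfl⟩
  refine (hV (𝟙 x)).1 h ⟨(𝒳.p.map a).left t, ?_⟩
  rw [CategoryTheory.Functor.map_id]
  rfl

theorem isClosedUnderIsomorphisms_of_openLocus : ObjectProperty.IsClosedUnderIsomorphisms Q :=
  ⟨fun e h => pull_of_openLocus H e.inv h⟩

theorem exists_open_chart [FibCat.IsFibGrpd 𝒳.p] {U : Over S} (y : FibCat.overCat U ⥤ᵇ 𝒳) :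
    ∃ V : U.left.Opens, ∀ g : (FibCat.overCat U).obj, Q (y.obj g) ↔ Set.range g.hom.left ⊆ V := by
  obtain ⟨V, hV⟩ := H (y.obj (ov (𝟙 U)))
  let e : U ⟶ 𝒳.p.obj (y.obj (ov (𝟙 U))) := eqToHom (y.w_obj (ov (𝟙 U))).symm
  refine ⟨e.left ⁻¹ᵁ V, fun g => (hV (y.map (toTop g))).trans ?_⟩
  rw [map_toTop]
  haveI : Surjective (eqToHom (y.w_obj g)).left := by
    haveI : IsIso (eqToHom (y.w_obj g)).left := inferInstanceAs (IsIso ((Over.forget S).map (eqToHom (y.w_obj g))))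
    infer_instance
  have h : Set.range (eqToHom (y.w_obj g) ≫ g.hom ≫ e).left = e.left '' Set.range g.hom.left := by
    rw [← Set.range_comp, Over.comp_left, Over.comp_left]
    ext z
    constructor
    · rintro ⟨t, rfl⟩
      exact ⟨(eqToHom (y.w_obj g)).left t, rfl⟩
    · rintro ⟨t, rfl⟩
      obtain ⟨t, rfl⟩ := (eqToHom (y.w_obj g)).left.surjective t
      exact ⟨t, rfl⟩
  change Set.range (eqToHom (y.w_obj g) ≫ g.hom ≫ e).left ⊆ _ ↔ _
  rw [h, Set.image_subset_iff]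
  rfl

theorem isOpenImm_subIncl [FibCat.IsFibGrpd 𝒳.p] : AlgSt.IsOpenImm (AlgSt.subIncl 𝒳 Q) := fun U y => by
  obtain ⟨V, hV⟩ := exists_open_chart H y
  let W : Over S := Over.mk (V.ι ≫ U.hom)
  let i : W ⟶ U := Over.homMk V.ι rfl
  haveI : Mono i := (Over.forget S).mono_of_mono_map (inferInstanceAs (Mono V.ι))
  let a : AlgSt.ofSp ((AlgSp.yon S).obj W) ⥤ᵇ FibCat.overCat U :=
    BasedFunctor.comp (AlgSt.toOverCat W) (AlgSt.overMap i)
  have ha : ∀ z, Q ((BasedFunctor.comp a y).obj z) := fun z => (hV (a.obj z)).2 (by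
    change Set.range (z.sec.down ≫ i).left ⊆ _
    rintro _ ⟨t, rfl⟩
    rw [Over.comp_left]
    exact (z.sec.down.left t).2)
  let e : AlgSt.ofSp ((AlgSp.yon S).obj W) ⥤ᵇ FibCat.fp y (AlgSt.subIncl 𝒳 Q) :=
    FibCat.fpLift a (liftSub (BasedFunctor.comp a y) ha) (Iso.refl _)
  have hiso := isClosedUnderIsomorphisms_of_openLocus H
  haveI : e.toFunctor.Faithful := ⟨fun {m n b c} h =>
    Stk.EltObj.hom_ext (congrArg (fun q : e.obj m ⟶ e.obj n => q.hom.fst.left) h)⟩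
  haveI : e.toFunctor.Full := ⟨fun {m n} ψ => by
    have h1 : ψ.hom.fst.left ≫ n.sec.down ≫ i = m.sec.down ≫ i := Over.w ψ.hom.fst
    have h2 : ψ.hom.fst.left ≫ n.sec.down = m.sec.down := (cancel_mono i).1 (by rw [Category.assoc]; exact h1)
    refine ⟨⟨ψ.hom.fst.left, congrArg ULift.up h2⟩, fp_hom_ext (Over.OverMorphism.ext rfl)
      (ObjectProperty.hom_ext _ ?_)⟩
    have h3 : y.map ψ.hom.fst ≫ 𝟙 _ = 𝟙 _ ≫ ψ.hom.snd.hom := ψ.hom.w
    rw [Category.comp_id, Category.id_comp] at h3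
    rw [← h3]
    exact congrArg (fun q => y.map q) (Over.OverMorphism.ext rfl)⟩
  refine ⟨⟨(AlgSp.yon S).obj W, AlgSp.IsAlgSpace.yon_obj W⟩, e, isEquivOver_of_vert e fun z => ?_, ?_⟩
  · have hz : Q (y.obj z.obj.fst) := hiso.of_iso z.obj.iso.symm z.obj.snd.2
    have hr : Set.range z.obj.fst.hom.left ⊆ Set.range V.ι := by
      rw [Scheme.Opens.range_ι]; exact (hV _).1 hz
    let l : z.obj.fst.left ⟶ W := Over.homMk (IsOpenImmersion.lift V.ι z.obj.fst.hom.left hr) (by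
      change _ ≫ V.ι ≫ U.hom = _
      rw [IsOpenImmersion.lift_fac_assoc]
      exact Over.w z.obj.fst.hom)
    have hl : l ≫ i = z.obj.fst.hom := Over.OverMorphism.ext (IsOpenImmersion.lift_fac _ _ _)
    let x : (AlgSt.ofSp ((AlgSp.yon S).obj W)).obj := ⟨z.obj.fst.left, ⟨l⟩⟩
    let ε : a.obj x ≅ z.obj.fst := Over.isoMk (Iso.refl _) (by
      change 𝟙 _ ≫ z.obj.fst.hom = l ≫ i
      rw [Category.id_comp, hl])
    refine ⟨x, rfl, ⟨fpHomMk ε.hom (ObjectProperty.homMk (y.map ε.hom ≫ z.obj.iso.hom)) ?_,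
      fpHomMk ε.inv (ObjectProperty.homMk (z.obj.iso.inv ≫ y.map ε.inv)) ?_, ?_, ?_⟩, ?_⟩
    · change y.map ε.hom ≫ z.obj.iso.hom = 𝟙 _ ≫ y.map ε.hom ≫ z.obj.iso.hom
      rw [Category.id_comp]
    · change y.map ε.inv ≫ 𝟙 _ = z.obj.iso.hom ≫ z.obj.iso.inv ≫ y.map ε.inv
      rw [Category.comp_id, Iso.hom_inv_id_assoc]
    · refine fp_hom_ext ε.hom_inv_id (ObjectProperty.hom_ext _ ?_)
      change (y.map ε.hom ≫ z.obj.iso.hom) ≫ z.obj.iso.inv ≫ y.map ε.inv = 𝟙 _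
      rw [Category.assoc, Iso.hom_inv_id_assoc, ← Functor.map_comp, Iso.hom_inv_id, CategoryTheory.Functor.map_id]
    · refine fp_hom_ext ε.inv_hom_id (ObjectProperty.hom_ext _ ?_)
      change (z.obj.iso.inv ≫ y.map ε.inv) ≫ y.map ε.hom ≫ z.obj.iso.hom = 𝟙 _
      rw [Category.assoc, ← Functor.map_comp_assoc, Iso.inv_hom_id, CategoryTheory.Functor.map_id, Category.id_comp,
        Iso.inv_hom_id]
    · exact (eqToHom_refl _ rfl).symm
  · have h : AlgSt.spMapOfOver (BasedFunctor.comp e (FibCat.fpFst y (AlgSt.subIncl 𝒳 Q))) = (AlgSp.yon S).map i := by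
      refine InducedCategory.hom_ext (NatTrans.ext (funext fun T => ?_))
      ext x
      refine congrArg ULift.up ?_
      change eqToHom _ ≫ x.down ≫ i = x.down ≫ i
      simp
    rw [h]
    exact Groth.Agent.ASp.repWith_yon_map (inferInstanceAs (IsOpenImmersion V.ι))

theorem isFibGrpd_fullSub [h𝒳 : FibCat.IsFibGrpd 𝒳.p] : FibCat.IsFibGrpd (AlgSt.fullSub 𝒳 Q).p where
  exists_lift {x V} f := by
    obtain ⟨y, φ, hφ⟩ := h𝒳.exists_lift (x := x.1) f
    refine ⟨⟨y, pull_of_openLocus H φ x.2⟩, ObjectProperty.homMk φ, ?_⟩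
    exact IsHomLift.of_fac' _ f _ (IsHomLift.domain_eq 𝒳.p f φ :) rfl (IsHomLift.fac' 𝒳.p f φ :)
  isStronglyCartesian {y x} φ := by
    haveI : (AlgSt.fullSub 𝒳 Q).p.IsHomLift ((AlgSt.fullSub 𝒳 Q).p.map φ) φ := IsHomLift.map _ φ
    refine ⟨fun {z} g ψ hψ => ?_⟩
    have e : g ≫ 𝒳.p.map φ.hom = 𝒳.p.map ψ.hom :=
      IsHomLift.eq_of_isHomLift (AlgSt.fullSub 𝒳 Q).p (g ≫ (AlgSt.fullSub 𝒳 Q).p.map φ) ψ
    obtain ⟨χ, ⟨h1, h2⟩, h3⟩ := existsUnique_fac φ.hom ψ.hom g e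
    refine ⟨ObjectProperty.homMk χ, ⟨?_, ObjectProperty.hom_ext _ h2⟩,
      fun χ' hχ' => ObjectProperty.hom_ext _ (h3 χ'.hom ⟨?_, ?_⟩)⟩
    · exact IsHomLift.of_fac' _ g _ rfl rfl (by simp; exact h1)
    · haveI := hχ'.1
      exact (IsHomLift.eq_of_isHomLift (AlgSt.fullSub 𝒳 Q).p g χ').symm
    · exact congrArg (fun m => m.hom) hχ'.2

/-- The square of diagonals. -/
noncomputable def subSqF : FibCat.fp (FibCat.toSelf (AlgSt.fullSub 𝒳 Q)) (FibCat.toSelf (AlgSt.fullSub 𝒳 Q)) ⥤ᵇ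
    FibCat.fp (FibCat.toSelf 𝒳) (FibCat.toSelf 𝒳) :=
  FibCat.fpLift (BasedFunctor.comp (FibCat.fpFst _ _) (AlgSt.subIncl 𝒳 Q))
    (BasedFunctor.comp (FibCat.fpSnd _ _) (AlgSt.subIncl 𝒳 Q)) (FibCat.fpIso _ _)

theorem isAlgStack_fullSub (hX : AlgSt.IsAlgStack Scheme.fppfPrecoverage 𝒳) :
    AlgSt.IsAlgStack Scheme.fppfPrecoverage (AlgSt.fullSub 𝒳 Q) := by
  haveI := hX.isStack.1
  haveI := isFibGrpd_fullSub H
  have hiso := isClosedUnderIsomorphisms_of_openLocus H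
  have him := isOpenImm_subIncl H
  refine ⟨isStack_of_faithful hX.isStack (AlgSt.subIncl 𝒳 Q) fun U y => ?_, ?_, ?_⟩
  · obtain ⟨F, e, he, -⟩ := him U y
    exact isStack_of_isEquivOver he (isStack_ofPsh_iff.2 ((isSheaf_iff_isSheaf_of_type _ _).1 F.obj.property))
  · let J := subSqF (𝒳 := 𝒳) (Q := Q)
    haveI : J.toFunctor.Faithful := ⟨fun {m n a b} h =>
      fp_hom_ext (ObjectProperty.hom_ext _ (congrArg (fun q => q.hom.fst) h))
        (ObjectProperty.hom_ext _ (congrArg (fun q => q.hom.snd) h))⟩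
    haveI : J.toFunctor.Full := ⟨fun {m n} ψ =>
      ⟨fpHomMk (ObjectProperty.homMk ψ.hom.fst) (ObjectProperty.homMk ψ.hom.snd) ψ.hom.w, fp_hom_ext rfl rfl⟩⟩
    have hd : AlgSt.RepByAlgSpWith (⊤ : MorphismProperty (AlgSp.Sp S)) (FibCat.diag (FibCat.toSelf 𝒳)) :=
      fun U y => let ⟨F, e, he⟩ := hX.diag U y; ⟨F, e, he, trivial⟩
    have := repByAlgSpWith_transfer (f' := FibCat.diag (FibCat.toSelf (AlgSt.fullSub 𝒳 Q)))
      (K := AlgSt.subIncl 𝒳 Q) (J := J) (fun b' a φ _ hφ => by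
        haveI : IsIso φ.hom.hom.fst := isIso_of_vert (𝒳 := 𝒳) φ.hom.hom.fst hφ
        refine ⟨⟨a, hiso.of_iso (asIso φ.hom.hom.fst) b'.obj.fst.2⟩, rfl, Iso.refl _, ?_⟩
        exact (𝒳.p.map_id _).trans (eqToHom_refl _ rfl).symm) (eqToIso (basedFunctor_ext rfl)) hd
    exact fun U y => let ⟨F, e, he, _⟩ := this U y; ⟨F, e, he⟩
  · obtain ⟨U₀, x₀, h1, h2⟩ := hX.atlas
    obtain ⟨V, hV⟩ := exists_open_chart H x₀
    let W : Over S := Over.mk (V.ι ≫ U₀.hom)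
    let i : W ⟶ U₀ := Over.homMk V.ι rfl
    haveI : Mono i := (Over.forget S).mono_of_mono_map (inferInstanceAs (Mono V.ι))
    have hW : ∀ g, Q ((BasedFunctor.comp (AlgSt.overMap i) x₀).obj g) := fun g => (hV _).2 (by
      change Set.range (g.hom ≫ i).left ⊆ _
      rintro _ ⟨t, rfl⟩
      rw [Over.comp_left]
      exact (g.hom.left t).2)
    haveI : (AlgSt.overMap i).toFunctor.Faithful :=
      ⟨fun h => Over.OverMorphism.ext (congrArg (fun q => q.left) h)⟩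
    haveI : (AlgSt.overMap i).toFunctor.Full := ⟨fun {m n} ψ =>
      ⟨Over.homMk ψ.left ((cancel_mono i).1 (by rw [Category.assoc]; exact Over.w ψ)),
        Over.OverMorphism.ext rfl⟩⟩
    refine ⟨W, liftSub (BasedFunctor.comp (AlgSt.overMap i) x₀) hW, ?_, ?_⟩
    · refine repByAlgSpWith_transfer (K := AlgSt.overMap i) (J := AlgSt.subIncl 𝒳 Q) (fun b' g φ _ _ => ?_)
        (eqToIso (basedFunctor_ext rfl)) h1
      have hg := (hV g).1 (hiso.of_iso φ b'.2)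
      let l : g.left ⟶ W := Over.homMk (IsOpenImmersion.lift V.ι g.hom.left (hg.trans (Scheme.Opens.range_ι V).ge)) (by
        change _ ≫ V.ι ≫ U₀.hom = _
        rw [IsOpenImmersion.lift_fac_assoc]
        exact Over.w g.hom)
      refine ⟨Over.mk l, rfl, Over.isoMk (Iso.refl _) ?_, (eqToHom_refl _ rfl).symm⟩
      change 𝟙 _ ≫ g.hom = l ≫ i
      rw [Category.id_comp]
      exact Over.OverMorphism.ext (IsOpenImmersion.lift_fac _ _ _).symm
    · refine repByAlgSpWith_transfer (K := AlgSt.overMap i) (J := AlgSt.subIncl 𝒳 Q) (fun b' g φ _ _ => ?_)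
        (eqToIso (basedFunctor_ext rfl)) h2
      have hg := (hV g).1 (hiso.of_iso φ b'.2)
      let l : g.left ⟶ W := Over.homMk (IsOpenImmersion.lift V.ι g.hom.left (hg.trans (Scheme.Opens.range_ι V).ge)) (by
        change _ ≫ V.ι ≫ U₀.hom = _
        rw [IsOpenImmersion.lift_fac_assoc]
        exact Over.w g.hom)
      refine ⟨Over.mk l, rfl, Over.isoMk (Iso.refl _) ?_, (eqToHom_refl _ rfl).symm⟩
      change 𝟙 _ ≫ g.hom = l ≫ i
      rw [Category.id_comp]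
      exact Over.OverMorphism.ext (IsOpenImmersion.lift_fac _ _ _).symm

/-- A property with open loci cuts out an open substack. -/
theorem isOpenSubstack_of_openLocus (hX : AlgSt.IsAlgStack Scheme.fppfPrecoverage 𝒳) :
    AlgSt.IsOpenSubstack 𝒳 Q Scheme.fppfPrecoverage := by
  haveI := hX.isStack.1
  exact ⟨isClosedUnderIsomorphisms_of_openLocus H, isAlgStack_fullSub H hX, isOpenImm_subIncl H⟩

end OpenSub

end Groth.Agent.CurvLocLib
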