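import Groth.Agent.CurvLocLib.Curves
import Groth.Agent.FundLocIsoLib.ProjTopForms
import Groth.Agent.PicProjLib.Chart
import Groth.Agent.CompleteCurve.ProjSpace
import Groth.Agent.S2768

/-!
Scheme families of curves, and the projective line over a field.
-/

set_option autoImplicit false
set_option backward.isDefEq.respectTransparency false
set_option backward.isDefEq.respectTransparency.types false

universe u

open CategoryTheory CategoryTheory.Limits AlgebraicGeometry

namespace Groth.Agent.CurvLocLib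

open _root_.AlgSp Groth.Agent.ASp

variable {S : Scheme.{u}}

/-- A scheme family as a family of sheaves. -/
noncomputable def schFam (T : Over S) {C : Scheme.{u}} (p : C ⟶ T.left) : CurvSt.SpFamObj S 0 :=
  (CurvSt.toSpFam S 0).obj ⟨T, C, p, Fin.elim0, fun i => i.elim0⟩

theorem isCurveFam_schFam (T : Over S) {C : Scheme.{u}} (p : C ⟶ T.left) [Flat p] [IsProper p]
    [LocallyOfFinitePresentation p] (hd : ∀ x, FlatMor.fibreDimAt p x ≤ ((1 : ℕ) : WithBot ℕ∞)) :
    CurvSt.IsCurveFam (schFam T p) := by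
  have key : ∀ (Q : MorphismProperty Scheme.{u}) [Q.IsStableUnderBaseChange], Q p →
      RepWith Q (schFam T p).f := fun Q _ h => repWith_yon_map h
  have hpr := isProperMor_of_repWith (key @IsProper inferInstance)
  refine ⟨IsAlgSpace.yon_obj _, locP_of_repWith (key @Flat inferInstance), hpr,
    ⟨locP_of_repWith (key @LocallyOfFinitePresentation inferInstance), hpr.2.1.2,
      repWith_mono (fun _ _ g (hg : IsClosedImmersion g) => (inferInstance : QuasiCompact g)) hpr.1⟩, fun x => ?_⟩
  obtain ⟨u, rfl⟩ := (Points.schemeHomeo _).surjective x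
  refine ⟨_, _, 𝟙 _, 𝟙 _, Over.homMk p rfl, u, repWith_id _ _, repWith_id _ _,
    (Category.id_comp _).trans (Category.comp_id _).symm, ?_, hd u⟩
  rw [Points.ofPt_eq_map_ofScheme, Points.map_id]
  rfl

variable (Ω : Type u) [Field Ω] (t : Spec (CommRingCat.of Ω) ⟶ S)

/-- The projective line as a family of curves over a field point. -/
noncomputable def p1Fam : CurvSt.SpFamObj S 0 := schFam (Over.mk t) (CohB1.ProjSpace.toSpec 1 Ω)

theorem smooth_p1 : SmoothOfRelativeDimension 1 (CohB1.ProjSpace.toSpec 1 Ω) :=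
  FundLocIsoLib.smoothOfRelativeDimension_toSpec 1 Ω

theorem isCurveFam_p1Fam : CurvSt.IsCurveFam (p1Fam Ω t) := by
  haveI := smooth_p1 Ω
  haveI : Smooth (CohB1.ProjSpace.toSpec 1 Ω) := SmoothOfRelativeDimension.smooth 1 _
  haveI : IsProper (CohB1.ProjSpace.toSpec 1 Ω) := CompleteCurve.isProper_toSpec 1 Ω
  exact isCurveFam_schFam _ _ fun x => (Groth.Agent.S2768.result 1 (CohB1.ProjSpace.toSpec 1 Ω) x).le

theorem nonempty_fiber_p1 {P : CurvSt.SpFamObj S 0 → Prop} (hP : P (p1Fam Ω t)) :
    Nonempty ((AlgSt.fullSub (CurvSt.Curves S 0) (fun A => P A.obj)).p.Fiber (Over.mk t)) :=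
  ⟨⟨⟨⟨p1Fam Ω t, isCurveFam_p1Fam Ω t⟩, hP⟩, rfl⟩⟩

end Groth.Agent.CurvLocLib
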