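import Groth.Agent.ASp.EtLocW
import Groth.Agent.ASp.Smooth
import Groth.Agent.GorSp.SpaceBC
import Groth.Agent.FlatLocus.PointScheme
import Groth.Agent.S2155
import Groth.Agent.S2768
import Groth.Agent.CurvLocLib.DimSpace
import Groth.Agent.CILib.FibreDim

/-!
The smooth locus of a flat morphism of algebraic spaces, and smoothness of relative dimension one.
-/

set_option autoImplicit false
set_option backward.isDefEq.respectTransparency false
set_option backward.isDefEq.respectTransparency.types false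
set_option linter.style.haveILetI false

universe u

open CategoryTheory CategoryTheory.Limits AlgebraicGeometry

namespace Groth.Agent.CurvLocLib

open _root_.AlgSp Groth.Agent.ASp

instance : EtW.IsEtLocW @Smooth.{u} where
  etale_le f hf := IsEtLocal.etale_le f hf
  of_precomp f g hf hs h := IsEtLocal.of_precomp f g hf hs h
  of_postcomp f g hg h := IsEtLocal.of_postcomp f g hg h
  flat_baseChange hc _ h := MorphismProperty.of_isPullback hc h

variable {S : Scheme.{u}} {F G : Sp S} {f : F ⟶ G}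

theorem locPNear_smooth_baseChange_iff (hF : IsAlgSpace F) (hG : IsAlgSpace G) (hf1 : LocP @Flat f)
    (hf2 : LocP @LocallyOfFinitePresentation f) {F' G' : Sp S} (hF' : IsAlgSpace F') (hG' : IsAlgSpace G')
    {g : G' ⟶ G} {g' : F' ⟶ F} {f' : F' ⟶ G'} (hsq : IsPullback g' f' f g) (x' : Points F') :
    LocPNear @Smooth f' x' ↔ LocPNear @Smooth f (Points.map g' x') := by
  obtain ⟨U, V, W, a, b, c, k, j, a', p, ha, hb, hc, ha', e, ej, e1, e2, hp, hu, hw⟩ :=
    Groth.Agent.GorSp.exists_baseChange_chart_through hF hG hF' hG' hsq x'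
  haveI : Flat k.left := hf1 a b k ha hb e
  haveI : LocallyOfFinitePresentation k.left := hf2 a b k ha hb e
  have sq := isPullback_left (IsPullback.of_hasPullback k j)
  haveI : LocallyOfFinitePresentation (pullback.snd k j).left := MorphismProperty.of_isPullback sq inferInstance
  rw [← hu, ← hp, EtW.locPNear_iff_of_chart hF ha hb e, EtW.locPNear_iff_of_chart hF' ha' hc e2,
    FlatLocus.exists_smooth_nhd_iff, FlatLocus.exists_smooth_nhd_iff]
  exact SetLike.ext_iff.1 (S2155.result k.left j.left _ _ sq (Or.inl inferInstance)) p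

/-- A smooth morphism whose fibres have dimension one is smooth of relative dimension one. -/
theorem smoothOfRelativeDimension_one {X Y : Scheme.{u}} (g : X ⟶ Y) [Smooth g]
    (h : ∀ x, FlatMor.fibreDimAt g x = ((1 : ℕ) : WithBot ℕ∞)) : SmoothOfRelativeDimension 1 g := by
  refine ⟨fun x => ?_⟩
  obtain ⟨U, hU, V, hV, hx, e, hs⟩ := (Smooth.iff_forall_exists_isStandardSmooth g).1 inferInstance x
  refine ⟨U, hU, V, hV, hx, e, ?_⟩
  letI := (g.appLE U V e).hom.toAlgebra
  obtain ⟨ι, σ, hσ, hι, ⟨P⟩⟩ := (hs : Algebra.IsStandardSmooth Γ(Y, U) Γ(X, V))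
  have hn : Algebra.IsStandardSmoothOfRelativeDimension P.dimension Γ(Y, U) Γ(X, V) :=
    P.isStandardSmoothOfRelativeDimension rfl
  have hV' : SmoothOfRelativeDimension P.dimension (V.ι ≫ g) := by
    refine ⟨fun v => ⟨U, hU, ⊤, @isAffineOpen_top _ hV, trivial, fun y _ => e y.2, ?_⟩⟩
    have e4 : (V.ι ≫ g).appLE U ⊤ (fun y _ => e y.2) = g.appLE U V e ≫ V.ι.appLE V ⊤ (fun y _ => y.2) :=
      (Scheme.Hom.appLE_comp_appLE V.ι g U V ⊤ _ _).symm
    rw [e4, CommRingCat.hom_comp]
    haveI : IsIso (V.ι.appLE V ⊤ (fun y _ => y.2)) := by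
      rw [Scheme.Opens.ι_appLE, Subsingleton.elim (homOfLE _) (eqToHom V.ι_image_top)]
      infer_instance
    exact RingHom.isStandardSmoothOfRelativeDimension_respectsIso.1 _
      (asIso (V.ι.appLE V ⊤ (fun y _ => y.2))).commRingCatIsoToRingEquiv hn
  have h1 := @Groth.Agent.S2768.result P.dimension _ _ (V.ι ≫ g) hV' ⟨x, hx⟩
  rw [← FibreDimEt.fibreDimAt_eq_of_etale g (V.ι ≫ g) V.ι (𝟙 _) (Category.comp_id _) ⟨x, hx⟩] at h1
  have h2 : P.dimension = 1 := by exact_mod_cast h1.symm.trans (h x)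
  change Algebra.IsStandardSmoothOfRelativeDimension 1 Γ(Y, U) Γ(X, V)
  exact h2 ▸ hn

theorem locP_smoothRelDimOne_iff (hF : IsAlgSpace F) (hG : IsAlgSpace G) :
    LocP (fun _ _ h => SmoothOfRelativeDimension 1 h) f ↔
      LocP @Smooth f ∧ ∀ x, HasAtMor (fun _ _ h u => FlatMor.fibreDimAt h u = ((1 : ℕ) : WithBot ℕ∞)) f x := by
  constructor
  · intro h
    refine ⟨fun U V a b k ha hb e => ?_, fun x => ?_⟩
    · haveI : SmoothOfRelativeDimension 1 k.left := h a b k ha hb e
      exact SmoothOfRelativeDimension.smooth 1 k.left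
    · obtain ⟨U, V, a, b, k, u, ha, hb, e, hu⟩ := FibreDimEt.exists_chart (f := f) hF hG x
      exact ⟨U, V, a, b, k, u, ha, hb, e, hu, @Groth.Agent.S2768.result 1 _ _ k.left (h a b k ha hb e) u⟩
  · intro h U V a b k ha hb e
    haveI : Smooth k.left := h.1 a b k ha hb e
    exact smoothOfRelativeDimension_one k.left fun u => (hasAtMor_dim_iff_of_chart ha hb e u _).1 (h.2 _)

theorem cm_of_smooth {X Y : Scheme.{u}} (g : X ⟶ Y) [Smooth g] (x : X) : MoreMor.IsCMAt g x :=
  Groth.Agent.CILib.isCMAt_of_isSyntomicMor g (Groth.Agent.CILib.isSyntomicMor_of_smooth g) x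

theorem locPAt_cm_of_locPNear_smooth (hF : IsAlgSpace F) (hG : IsAlgSpace G) (hf1 : LocP @Flat f)
    (hf2 : LocP @LocallyOfFiniteType f) (x : Points F) (h : LocPNear @Smooth f x) :
    LocPAt (fun h u => MoreMor.IsCMAt h u) f x := by
  obtain ⟨U, V, a, b, k, u, ha, hb, e, rfl⟩ := FibreDimEt.exists_chart (f := f) hF hG x
  obtain ⟨W, huW, hW⟩ := (EtW.locPNear_iff_of_chart hF ha hb e u).1 h
  haveI : Smooth (W.ι ≫ k.left) := hW
  rw [locPAt_cm_iff_of_chart hf1 hf2 ha hb e u]
  exact (CMFlatLib.isCMAt_comp_left_iff W.ι k.left ⟨u, huW⟩).1 (cm_of_smooth _ _)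

end Groth.Agent.CurvLocLib
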