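import Groth.Agent.CurvLocLib.P1Fam
import Groth.Agent.CurvLocLib.FieldRows
import Groth.Agent.CurvLocLib.SmoothSpace
import Groth.Agent.ASp.GeomRedEt
import Groth.Agent.GorLib.Ring

/-!
Local properties of the projective line family.
-/

set_option autoImplicit false
set_option backward.isDefEq.respectTransparency false
set_option backward.isDefEq.respectTransparency.types false

universe u

open CategoryTheory CategoryTheory.Limits AlgebraicGeometry

namespace Groth.Agent.CurvLocLib

open _root_.AlgSp Groth.Agent.ASp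

variable {S : Scheme.{u}} (Ω : Type u) [Field Ω] (t : Spec (CommRingCat.of Ω) ⟶ S)

theorem locP_smooth1_p1 : LocP (fun _ _ h => SmoothOfRelativeDimension 1 h) (p1Fam Ω t).f := by
  haveI := smooth_p1 Ω
  refine (locP_smoothRelDimOne_iff (IsAlgSpace.yon_obj _) (IsAlgSpace.yon_obj _)).2 ⟨?_, fun x => ?_⟩
  · exact Groth.Agent.ASp.locP_of_repWith
      (Groth.Agent.ASp.repWith_yon_map (SmoothOfRelativeDimension.smooth 1 (CohB1.ProjSpace.toSpec 1 Ω)))
  · obtain ⟨u, rfl⟩ := (Points.schemeHomeo _).surjective x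
    refine ⟨_, _, 𝟙 _, 𝟙 _, Over.homMk (CohB1.ProjSpace.toSpec 1 Ω) rfl, u, repWith_id _ _, repWith_id _ _,
      (Category.id_comp _).trans (Category.comp_id _).symm, ?_,
      Groth.Agent.S2768.result 1 (CohB1.ProjSpace.toSpec 1 Ω) u⟩
    rw [Points.ofPt_eq_map_ofScheme, Points.map_id]
    rfl

theorem locP_gor_p1 : LocP (fun _ _ g => ∀ x, (g.stalkMap x).hom.Flat ∧
    LocCoh.IsGorensteinLocalRing ((g.fiber (g x)).presheaf.stalk (g.asFiber x))) (p1Fam Ω t).f := by
  intro U V a b k ha hb e r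
  obtain ⟨u, v, hu, hv, huv⟩ := exists_chart_yon_map ha hb e
  change Etale u at hu
  haveI := hu
  haveI := hv
  haveI := smooth_p1 Ω
  haveI : Smooth (CohB1.ProjSpace.toSpec 1 Ω) := SmoothOfRelativeDimension.smooth 1 _
  show Dual3.IsGorensteinAt k.left r
  rw [← GorSp.gorMap_postcomp_etale k.left v r, ← huv]
  have key : ∀ {W : Scheme.{u}} (w : W ⟶ CohB1.ProjSpace 1 Ω) [Etale w] (r : W),
      Dual3.IsGorensteinAt (w ≫ CohB1.ProjSpace.toSpec 1 Ω) r := fun w _ r => by
    rw [GorSp.gorMap_precomp_etale w _ r, gorAt_iff_stalk _ _ (DimFormulaLib.isField_stalk _ _).1]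
    haveI := ASp.isRegularLocalRing_stalk_of_smooth_field (CohB1.ProjSpace.toSpec 1 Ω) (w r)
    exact GorLib.gorensteinLocal_of_regular _
  exact key u r

end Groth.Agent.CurvLocLib
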